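import Groth.Agent.GaetaResLib.Van
import Groth.Agent.DegenGenLib.Split
import Groth.Agent.SurfExtLib.LocGlob
import Groth.Agent.HomCohLib.Coh
import Groth.Agent.QCohLib.Coherent
import Groth.Agent.VBResLib.GGen
import Groth.Agent.LocSuppLib.LocFree
import Groth.Agent.SeesawLib.Pulled
import Groth.Agent.DevissLib.Basic

/-!
# Gaeta resolutions on the plane
-/

set_option autoImplicit false
set_option linter.style.haveILetI false
set_option backward.isDefEq.respectTransparency false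
set_option backward.isDefEq.respectTransparency.types false

noncomputable section

universe u

open CategoryTheory CategoryTheory.Limits AlgebraicGeometry TopologicalSpace Opposite
open DegenGenLib (coprojC ι_coprojC total_coprojC)
open scoped TensorProduct

namespace GaetaResLib

variable (k : Type u) [Field k]

local notation "P" => CohB1.ProjSpace 2 k
local notation "O'" => Twist.twistProjSpace 2 k
local notation "Ost" => Coh.structureModule (CohB1.ProjSpace 2 k)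

/-- The vanishing conditions. -/
structure Cond (F : (CohB1.ProjSpace 2 k).Modules) : Prop where
  h0m : Van F (-1) 0
  h2m : Van F (-1) 2
  h1 : Van F 0 1
  h2 : Van F 0 2
  h1p : Van F 1 1
  h2p : Van F 1 2

/-- The multiplication map. -/
abbrev mult (F : (CohB1.ProjSpace 2 k).Modules) :
    ((O' (-1) ⟶ Ost) ⊗[k] (Ost ⟶ F)) →ₗ[k] (O' (-1) ⟶ F) :=
  TensorProduct.lift (CategoryTheory.Linear.comp (O' (-1)) Ost F : (O' (-1) ⟶ Ost) →ₗ[k] (Ost ⟶ F) →ₗ[k] (O' (-1) ⟶ F))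

theorem van_source (a : ℕ) (t : ℤ) (p : ℕ) (h₀ : ¬ (p = 0 ∧ 0 ≤ t + -2)) (hn : ¬ (p = 2 ∧ t + -2 ≤ -3)) :
    Van (∐ fun _ : Fin a => O' (-2)) t p :=
  van_sigma_twist a _ t p h₀ (by simpa using hn)

theorem van_target (a b : ℕ) (t : ℤ) (p : ℕ) (h₀ : ¬ (p = 0 ∧ 0 ≤ t + -1)) (h₀' : ¬ (p = 0 ∧ 0 ≤ t))
    (hn : ¬ (p = 2 ∧ t + -1 ≤ -3)) :
    Van ((∐ fun _ : Fin a => O' (-1)) ⊞ (∐ fun _ : Fin b => Ost)) t p :=
  van_biprod (van_sigma_twist a _ t p h₀ (by simpa using hn))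
    (van_free b t p h₀' (by rintro ⟨rfl, h⟩; exact hn ⟨rfl, by omega⟩))

theorem hom_structure_eq_zero {M : (CohB1.ProjSpace 2 k).Modules} (h : Van M 0 0) (f : Ost ⟶ M) : f = 0 := by
  obtain ⟨i⟩ := PicPnLib.twist_zero 2 k
  refine (cancel_epi i.hom).1 ?_
  rw [comp_zero]
  exact hom_eq_zero (t := 0) h (i.hom ≫ f)

theorem exists_lift_structure {S : ShortComplex (CohB1.ProjSpace 2 k).Modules} (hS : S.ShortExact) (h : Van S.X₁ 0 1)
    (f : Ost ⟶ S.X₃) : ∃ l, l ≫ S.g = f := by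
  obtain ⟨i⟩ := PicPnLib.twist_zero 2 k
  obtain ⟨l, hl⟩ := exists_lift hS (t := 0) h (i.hom ≫ f)
  exact ⟨i.inv ≫ l, by rw [Category.assoc]; exact (congrArg (i.inv ≫ ·) hl).trans (i.inv_hom_id_assoc f)⟩

theorem van_zero_of_hom {M : (CohB1.ProjSpace 2 k).Modules} (h : ∀ f : Ost ⟶ M, f = 0) : Van M 0 0 := by
  obtain ⟨i⟩ := PicPnLib.twist_zero 2 k
  refine van_of_hom_eq_zero (t := 0) fun f => ?_
  exact (cancel_epi i.inv).1 ((h (i.inv ≫ f)).trans comp_zero.symm)

theorem eq_sum_coproj {n : ℕ} {E L : (CohB1.ProjSpace 2 k).Modules} (w : E ⟶ ∐ fun _ : Fin n => L) :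
    w = ∑ a, (w ≫ coprojC L a) ≫ Sigma.ι (fun _ : Fin n => L) a := by
  conv_lhs => rw [← Category.comp_id w, ← total_coprojC (n := n) L, Preadditive.comp_sum]
  simp only [Category.assoc]

theorem coproj_sum {n : ℕ} {E L : (CohB1.ProjSpace 2 k).Modules} (ψ : Fin n → (E ⟶ L)) (a : Fin n) :
    (∑ i, ψ i ≫ Sigma.ι (fun _ : Fin n => L) i) ≫ coprojC L a = ψ a := by
  rw [Preadditive.sum_comp, Finset.sum_eq_single a]
  · rw [Category.assoc, ι_coprojC, if_pos rfl, Category.comp_id]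
  · intro b _ hb
    rw [Category.assoc, ι_coprojC, if_neg hb, comp_zero]
  · simp

theorem cond_of_resolution {a₁ a₂ a₃ : ℕ} {S : ShortComplex (CohB1.ProjSpace 2 k).Modules} (hS : S.ShortExact)
    (e₁ : S.X₁ ≅ ∐ fun _ : Fin a₁ => O' (-2))
    (e₂ : S.X₂ ≅ (∐ fun _ : Fin a₂ => O' (-1)) ⊞ (∐ fun _ : Fin a₃ => Ost))
    {F : (CohB1.ProjSpace 2 k).Modules} (e₃ : S.X₃ ≅ F) : Cond k F ∧ Function.Injective (mult k F) := by
  have v₁ : ∀ t p, ¬ (p = 0 ∧ 0 ≤ t + -2) → ¬ (p = 2 ∧ t + -2 ≤ -3) → Van S.X₁ t p :=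
    fun t p h h' => (van_source k a₁ t p h h').of_iso e₁
  have v₂ : ∀ t p, ¬ (p = 0 ∧ 0 ≤ t + -1) → ¬ (p = 0 ∧ 0 ≤ t) → ¬ (p = 2 ∧ t + -1 ≤ -3) → Van S.X₂ t p :=
    fun t p h h' h'' => (van_target k a₂ a₃ t p h h' h'').of_iso e₂
  have v₃ : ∀ t p, Van S.X₂ t p → Van S.X₁ t (p + 1) → Van F t p :=
    fun t p h h' => (van_X₃ hS h h').of_iso e₃.symm
  refine ⟨⟨v₃ _ _ (v₂ _ _ (by omega) (by omega) (by omega)) (v₁ _ _ (by omega) (by omega)),
    v₃ _ _ (v₂ _ _ (by omega) (by omega) (by omega)) (v₁ _ _ (by omega) (by omega)),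
    v₃ _ _ (v₂ _ _ (by omega) (by omega) (by omega)) (v₁ _ _ (by omega) (by omega)),
    v₃ _ _ (v₂ _ _ (by omega) (by omega) (by omega)) (v₁ _ _ (by omega) (by omega)),
    v₃ _ _ (v₂ _ _ (by omega) (by omega) (by omega)) (v₁ _ _ (by omega) (by omega)),
    v₃ _ _ (v₂ _ _ (by omega) (by omega) (by omega)) (v₁ _ _ (by omega) (by omega))⟩, ?_⟩
  let g : ((∐ fun _ : Fin a₂ => O' (-1)) ⊞ (∐ fun _ : Fin a₃ => Ost)) ⟶ F := e₂.inv ≫ S.g ≫ e₃.hom
  let s : Fin a₃ → (Ost ⟶ F) := fun a => Sigma.ι (fun _ : Fin a₃ => Ost) a ≫ biprod.inr ≫ g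
  have hs : ∀ f : Ost ⟶ F, f ∈ Submodule.span k (Set.range s) := by
    intro f
    obtain ⟨l, hl⟩ := exists_lift_structure k hS (v₁ 0 1 (by omega) (by omega)) (f ≫ e₃.inv)
    let l' := l ≫ e₂.hom
    have hf : f = l' ≫ g := by
      rw [show l' ≫ g = (l ≫ S.g) ≫ e₃.hom by simp [l', g], hl, Category.assoc, e₃.inv_hom_id, Category.comp_id]
    have h1 : l' ≫ biprod.fst = 0 :=
      hom_structure_eq_zero k (van_sigma_twist a₂ (-1) 0 0 (by omega) (by omega)) _
    have h2 : l' = ∑ a, (l' ≫ biprod.snd ≫ coprojC Ost a) ≫ Sigma.ι (fun _ : Fin a₃ => Ost) a ≫ biprod.inr := by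
      conv_lhs => rw [← Category.comp_id l', ← biprod.total, Preadditive.comp_add, ← Category.assoc, h1, zero_comp,
        zero_add, ← Category.assoc, eq_sum_coproj k (l' ≫ biprod.snd), Preadditive.sum_comp]
      simp only [Category.assoc]
    rw [hf, h2, Preadditive.sum_comp]
    refine Submodule.sum_mem _ fun a _ => ?_
    obtain ⟨c, hc⟩ := exists_smul_id_structure 2 k (l' ≫ biprod.snd ≫ coprojC Ost a)
    rw [hc, CategoryTheory.Linear.smul_comp, Category.id_comp, CategoryTheory.Linear.smul_comp]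
    exact Submodule.smul_mem _ _ (Submodule.subset_span ⟨a, by simp [s]⟩)
  have hdec : ∀ x : (O' (-1) ⟶ Ost) ⊗[k] (Ost ⟶ F), ∃ ψ : Fin a₃ → (O' (-1) ⟶ Ost), x = ∑ a, ψ a ⊗ₜ s a := by
    intro x
    induction x using TensorProduct.induction_on with
    | zero => exact ⟨0, by simp⟩
    | add x y hx hy =>
      obtain ⟨p, rfl⟩ := hx
      obtain ⟨q, rfl⟩ := hy
      exact ⟨p + q, by simp [TensorProduct.add_tmul, Finset.sum_add_distrib]⟩
    | tmul ψ f =>
      obtain ⟨c, rfl⟩ := (Submodule.mem_span_range_iff_exists_fun k).1 (hs f)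
      exact ⟨fun a => c a • ψ, by simp [TensorProduct.tmul_sum, TensorProduct.smul_tmul]⟩
  refine (injective_iff_map_eq_zero _).2 fun x hx => ?_
  obtain ⟨ψ, rfl⟩ := hdec x
  let w : O' (-1) ⟶ (∐ fun _ : Fin a₃ => Ost) := ∑ a, ψ a ≫ Sigma.ι (fun _ : Fin a₃ => Ost) a
  have hw : (w ≫ biprod.inr ≫ e₂.inv) ≫ S.g = 0 := by
    refine (cancel_mono e₃.hom).1 ?_
    rw [zero_comp]
    refine Eq.trans ?_ hx
    rw [map_sum]
    simp only [w, Category.assoc, Preadditive.sum_comp, TensorProduct.lift.tmul, s, g]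
    rfl
  have h0 : w ≫ biprod.inr ≫ e₂.inv = 0 := by
    haveI := hS.mono_f
    obtain ⟨l, hl⟩ := KernelFork.IsLimit.lift' hS.fIsKernel _ hw
    rw [← hl, hom_eq_zero (t := 1) (v₁ 1 0 (by omega) (by omega)) l]
    exact zero_comp
  have hw0 : w = 0 := by
    have := congrArg (fun z => z ≫ e₂.hom ≫ biprod.snd) h0
    simpa using this
  have hψ : ∀ a, ψ a = 0 := fun a => by
    rw [← coproj_sum k ψ a]
    exact (congrArg (· ≫ coprojC Ost a) hw0).trans zero_comp
  simp [hψ]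

theorem cancel_of_regular {M Q : (CohB1.ProjSpace 2 k).Modules} (hM : Coh.IsQCoh M) (m : ℤ)
    (h : Curv2.IsMRegular k 2 M m) (q : M ⟶ Q) (hq : ∀ f : O' (-m) ⟶ M, f ≫ q = 0) : q = 0 :=
  cancel_of_gg (inv 2 k m (-m) (by omega))
    (MiscFlat6.isGloballyGenerated_of_iso (HilbPolyLib.swapIso M (O' m))
      (PnCohLib.isGloballyGenerated_of_regular k M hM m h)) q hq

theorem isMRegular_of_van {M : (CohB1.ProjSpace 2 k).Modules} (m : ℤ) (h₁ : Van M (m - 1) 1)
    (h₂ : Van M (m - 2) 2) : Curv2.IsMRegular k 2 M m := by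
  intro i hi hi'
  rw [← van_iff]
  rcases (show i = 1 ∨ i = 2 by omega) with rfl | rfl
  · simpa using h₁
  · simpa using h₂

theorem finite_hom {E F : (CohB1.ProjSpace 2 k).Modules} (hE : Coh.IsCoh E) (hF : Coh.IsCoh F) :
    Module.Finite k (E ⟶ F) := by
  haveI := PnCohLib.isLocallyNoetherian_projSpace (n := 2) k
  haveI := GradedCechLib.finite_HH (CohCmpLib.homMod E F) (HomCohLib.isCoh_homMod hE hF) 0
  exact Module.Finite.equiv (SurfExtLib.secEquiv (k := k) E F).symm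

theorem finite_hom_structure {F : (CohB1.ProjSpace 2 k).Modules} (hF : Coh.IsCoh F) :
    Module.Finite k (Ost ⟶ F) := by
  obtain ⟨i⟩ := PicPnLib.twist_zero 2 k
  exact finite_hom k (QCohLib.isCoh_of_iso i (PnCohLib.isCoh_twist k 0)) hF

/-- A regular module with no sections in degree `1` and `H¹ = 0` is a sum of copies of `O(-2)`. -/
theorem exists_iso_sum {K : (CohB1.ProjSpace 2 k).Modules} (hK : Coh.IsCoh K) (h10 : Van K 1 0) (h01 : Van K 0 1)
    (h11 : Van K 1 1) (h02 : Van K 0 2) : ∃ b : ℕ, Nonempty (K ≅ ∐ fun _ : Fin b => O' (-2)) := by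
  haveI := finite_hom k (PnCohLib.isCoh_twist (n := 2) k (-2)) hK
  let v := Module.finBasis k (O' (-2) ⟶ K)
  let φ : (∐ fun _ : Fin (Module.finrank k (O' (-2) ⟶ K)) => O' (-2)) ⟶ K := Sigma.desc fun b => v b
  have hreg : Curv2.IsMRegular k 2 K 2 := isMRegular_of_van k 2 h11 h02
  haveI : Epi φ := Preadditive.epi_of_cancel_zero _ fun q hq => by
    refine cancel_of_regular k hK.1 2 hreg q fun f => ?_
    rw [← v.sum_repr f, Preadditive.sum_comp]
    refine Finset.sum_eq_zero fun b _ => ?_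
    rw [CategoryTheory.Linear.smul_comp, show v b ≫ q = 0 from ?_, smul_zero]
    have := congrArg (Sigma.ι (fun _ : Fin (Module.finrank k (O' (-2) ⟶ K)) => O' (-2)) b ≫ ·) hq
    simpa [φ] using this
  let S : ShortComplex (CohB1.ProjSpace 2 k).Modules := ShortComplex.mk (kernel.ι φ) φ (kernel.condition φ)
  have hS : S.ShortExact := ShortComplex.ShortExact.mk (ShortComplex.exact_kernel φ)
  have n11 : Van S.X₁ 1 1 := van_X₁ hS (p := 0) (van_source k _ 1 1 (by omega) (by omega)) h10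
  have n02 : Van S.X₁ 0 2 := van_X₁ hS (p := 1) (van_source k _ 0 2 (by omega) (by omega)) h01
  haveI : Coh.IsQCoh K := hK.1
  haveI : Coh.IsQCoh (∐ fun _ : Fin (Module.finrank k (O' (-2) ⟶ K)) => O' (-2)) :=
    (PnCohLib.isCoh_sigma (n := 2) k _ _).1
  have hN : ∀ f : O' (-2) ⟶ kernel φ, f = 0 := by
    intro f
    refine (cancel_mono (kernel.ι φ)).1 ?_
    rw [zero_comp]
    let c : Fin (Module.finrank k (O' (-2) ⟶ K)) → (O' (-2) ⟶ O' (-2)) :=
      fun b => (f ≫ kernel.ι φ) ≫ coprojC (O' (-2)) b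
    choose a ha using fun b => exists_smul_id 2 k (-2) (c b)
    have h1 : ∑ b, a b • v b = 0 := by
      have h2 : (f ≫ kernel.ι φ) ≫ φ = 0 := by rw [Category.assoc, kernel.condition, comp_zero]
      rw [eq_sum_coproj k (f ≫ kernel.ι φ), Preadditive.sum_comp] at h2
      rw [← h2]
      refine Finset.sum_congr rfl fun b _ => ?_
      rw [show ((f ≫ kernel.ι φ) ≫ coprojC (O' (-2)) b) = a b • 𝟙 _ from ha b, Category.assoc,
        CategoryTheory.Linear.smul_comp, Category.id_comp]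
      simp [φ]
    have h3 : ∀ b, a b = 0 := Fintype.linearIndependent_iff.1 v.linearIndependent a h1
    rw [eq_sum_coproj k (f ≫ kernel.ι φ)]
    refine Finset.sum_eq_zero fun b _ => ?_
    rw [show ((f ≫ kernel.ι φ) ≫ coprojC (O' (-2)) b) = a b • 𝟙 _ from ha b, h3, zero_smul, zero_comp]
  have hz : kernel.ι φ = 0 := by
    have := cancel_of_regular k (QCohLib.isQCoh_kernel φ) 2 (isMRegular_of_van k 2 n11 n02) (𝟙 (kernel φ))
      fun f => by rw [Category.comp_id]; exact hN f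
    rw [← Category.id_comp (kernel.ι φ), this, zero_comp]
  haveI : Mono φ := Preadditive.mono_of_kernel_zero hz
  haveI : IsIso φ := isIso_of_mono_of_epi φ
  exact ⟨_, ⟨(asIso φ).symm⟩⟩

set_option maxHeartbeats 800000 in
theorem resolution_of_cond {F : (CohB1.ProjSpace 2 k).Modules} (hF : Coh.IsCoh F) (h : Cond k F)
    (hμ : Function.Injective (mult k F)) :
    ∃ (α₁ α₂ α₃ : ℕ) (S : ShortComplex (CohB1.ProjSpace 2 k).Modules), S.ShortExact ∧
      Nonempty (S.X₁ ≅ ∐ fun _ : Fin α₁ => O' (-2)) ∧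
      Nonempty (S.X₂ ≅ (∐ fun _ : Fin α₂ => O' (-1)) ⊞ (∐ fun _ : Fin α₃ => Ost)) ∧
      Nonempty (S.X₃ ≅ F) := by
  haveI := finite_hom_structure k hF
  haveI := finite_hom k (PnCohLib.isCoh_twist (n := 2) k (-1)) hF
  let bs := Module.finBasis k (Ost ⟶ F)
  obtain ⟨C, hC⟩ := Submodule.exists_isCompl (LinearMap.range (mult k F))
  let bt := Module.finBasis k C
  let a₃ := Module.finrank k (Ost ⟶ F)
  let a₂ := Module.finrank k C
  let β : ((∐ fun _ : Fin a₂ => O' (-1)) ⊞ (∐ fun _ : Fin a₃ => Ost)) ⟶ F :=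
    biprod.desc (Sigma.desc fun b => (bt b : O' (-1) ⟶ F)) (Sigma.desc fun a => bs a)
  have hreg : Curv2.IsMRegular k 2 F 1 := isMRegular_of_van k 1 h.h1 h.h2m
  -- every homomorphism out of `O` lifts
  have hs : ∀ f : Ost ⟶ F, ∃ l, l ≫ β = f := fun f =>
    ⟨(∑ a, bs.repr f a • Sigma.ι (fun _ : Fin a₃ => Ost) a) ≫ biprod.inr, by
      conv_rhs => rw [← bs.sum_repr f]
      rw [Category.assoc, Preadditive.sum_comp]
      refine Finset.sum_congr rfl fun a _ => ?_
      rw [CategoryTheory.Linear.smul_comp]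
      simp [β]⟩
  -- every homomorphism out of `O(-1)` lifts
  have ht : ∀ f : O' (-1) ⟶ F, ∃ l, l ≫ β = f := by
    intro f
    obtain ⟨y, hy, z, hz, rfl⟩ := Submodule.mem_sup.1 (hC.sup_eq_top.ge (Submodule.mem_top (x := f)))
    obtain ⟨x, rfl⟩ := hy
    obtain ⟨l₁, hl₁⟩ : ∃ l, l ≫ β = mult k F x := by
      induction x using TensorProduct.induction_on with
      | zero => exact ⟨0, by simp⟩
      | add x y hx hy =>
        obtain ⟨l, hl⟩ := hx
        obtain ⟨l', hl'⟩ := hy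
        exact ⟨l + l', by rw [map_add, Preadditive.add_comp, hl, hl']⟩
      | tmul ψ f =>
        obtain ⟨l, hl⟩ := hs f
        exact ⟨ψ ≫ l, by rw [Category.assoc, hl]; rfl⟩
    refine ⟨l₁ + (∑ b, bt.repr ⟨z, hz⟩ b • Sigma.ι (fun _ : Fin a₂ => O' (-1)) b) ≫ biprod.inl, ?_⟩
    rw [Preadditive.add_comp, hl₁]
    congr 1
    rw [Category.assoc, Preadditive.sum_comp]
    conv_rhs => rw [show z = ((⟨z, hz⟩ : C) : O' (-1) ⟶ F) from rfl, ← bt.sum_repr ⟨z, hz⟩, Submodule.coe_sum]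
    refine Finset.sum_congr rfl fun b _ => ?_
    rw [CategoryTheory.Linear.smul_comp, Submodule.coe_smul]
    simp [β]
  haveI : Epi β := Preadditive.epi_of_cancel_zero _ fun q hq => by
    refine cancel_of_regular k hF.1 1 hreg q fun f => ?_
    obtain ⟨l, rfl⟩ := ht f
    rw [Category.assoc, hq, comp_zero]
  -- no homomorphism out of `O` or `O(-1)` is killed
  have hinj1 : ∀ w : O' (-1) ⟶ ((∐ fun _ : Fin a₂ => O' (-1)) ⊞ (∐ fun _ : Fin a₃ => Ost)), w ≫ β = 0 → w = 0 := by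
    intro w hw
    let p := w ≫ biprod.fst
    let r := w ≫ biprod.snd
    have hsplit : w ≫ β = (∑ b, (p ≫ coprojC (O' (-1)) b) ≫ (bt b : O' (-1) ⟶ F)) +
        ∑ a, (r ≫ coprojC Ost a) ≫ bs a := by
      conv_lhs => rw [← Category.comp_id w, ← biprod.total, Preadditive.comp_add, Preadditive.add_comp]
      rw [← Category.assoc w, ← Category.assoc w]
      show (p ≫ biprod.inl) ≫ β + (r ≫ biprod.inr) ≫ β = _
      conv_lhs => rw [eq_sum_coproj k p, eq_sum_coproj k r]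
      simp [β, Preadditive.sum_comp]
    choose c hc using fun b => exists_smul_id 2 k (-1) (p ≫ coprojC (O' (-1)) b)
    let x : (O' (-1) ⟶ Ost) ⊗[k] (Ost ⟶ F) := ∑ a, (r ≫ coprojC Ost a) ⊗ₜ bs a
    have hx : mult k F x = ∑ a, (r ≫ coprojC Ost a) ≫ bs a := by
      simp only [x, map_sum, TensorProduct.lift.tmul]
      rfl
    have hsum : ((∑ b, c b • bt b : C) : O' (-1) ⟶ F) + mult k F x = 0 := by
      rw [hx, ← hw, hsplit, Submodule.coe_sum]
      congr 1
      refine Finset.sum_congr rfl fun b _ => ?_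
      rw [hc b, CategoryTheory.Linear.smul_comp, Category.id_comp, Submodule.coe_smul]
    have hCz : ((∑ b, c b • bt b : C) : O' (-1) ⟶ F) = 0 := by
      refine (Submodule.disjoint_def.1 hC.symm.disjoint) _ (Submodule.coe_mem _) ?_
      rw [eq_neg_of_add_eq_zero_left hsum]
      exact neg_mem ⟨x, rfl⟩
    rw [hCz, zero_add] at hsum
    have hx0 : x = 0 := hμ (hsum.trans (map_zero _).symm)
    have hc0 : ∀ b, c b = 0 := Fintype.linearIndependent_iff.1 bt.linearIndependent c (Subtype.ext hCz)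
    have hr0 : ∀ a, r ≫ coprojC Ost a = 0 := fun a => by
      let L : (O' (-1) ⟶ Ost) ⊗[k] (Ost ⟶ F) →ₗ[k] (O' (-1) ⟶ Ost) :=
        (TensorProduct.rid k (O' (-1) ⟶ Ost)).toLinearMap ∘ₗ (bs.coord a).lTensor _
      have h1 : L x = r ≫ coprojC Ost a := by
        simp only [L, x, map_sum]
        rw [Finset.sum_eq_single a]
        · simp
        · intro b _ hb
          simp [hb]
        · simp
      rw [← h1, hx0, map_zero]
    refine biprod.hom_ext _ _ ?_ ?_
    · rw [zero_comp]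
      show p = 0
      rw [eq_sum_coproj k p]
      exact Finset.sum_eq_zero fun b _ => by rw [hc b, hc0 b, zero_smul, zero_comp]
    · rw [zero_comp]
      show r = 0
      rw [eq_sum_coproj k r]
      exact Finset.sum_eq_zero fun a _ => by rw [hr0 a, zero_comp]
  let S : ShortComplex (CohB1.ProjSpace 2 k).Modules := ShortComplex.mk (kernel.ι β) β (kernel.condition β)
  have hS : S.ShortExact := ShortComplex.ShortExact.mk (ShortComplex.exact_kernel β)
  have k10 : Van S.X₁ 1 0 := van_of_hom_eq_zero (t := 1) fun f => by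
    refine (cancel_mono (kernel.ι β)).1 ?_
    rw [zero_comp]
    exact hinj1 _ (by rw [Category.assoc, kernel.condition, comp_zero])
  have k01 : Van S.X₁ 0 1 := van_X₁_one hS (van_target k _ _ 0 1 (by omega) (by omega) (by omega)) fun f => by
    obtain ⟨i⟩ := PicPnLib.twist_zero 2 k
    obtain ⟨l, hl⟩ := hs (i.inv ≫ f)
    exact ⟨i.hom ≫ l, by rw [Category.assoc]; exact (congrArg (i.hom ≫ ·) hl).trans (i.hom_inv_id_assoc f)⟩
  have k11 : Van S.X₁ 1 1 :=
    van_X₁_one hS (van_target k _ _ 1 1 (by omega) (by omega) (by omega)) fun f => ht f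
  have k02 : Van S.X₁ 0 2 := van_X₁ hS (p := 1) (van_target k _ _ 0 2 (by omega) (by omega) (by omega)) h.h1
  haveI : Coh.IsQCoh F := hF.1
  have hB : Coh.IsCoh ((∐ fun _ : Fin a₂ => O' (-1)) ⊞ (∐ fun _ : Fin a₃ => Ost)) := by
    haveI := PnCohLib.isLocallyNoetherian_projSpace (n := 2) k
    exact DevissLib.isCoh_biprod (PnCohLib.isCoh_sigma (n := 2) k _ _) (LocSuppLib.isCoh_of_isFinLocFree (SeesawLib.isFinLocFree_of_rank (VBResLib.rank_freeMod _)))
  have hK : Coh.IsCoh (kernel β) := by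
    haveI := PnCohLib.isLocallyNoetherian_projSpace (n := 2) k
    exact QCohLib.isCoh_kernel β hB hF.1
  obtain ⟨b, ⟨e⟩⟩ := exists_iso_sum k hK k10 k01 k11 k02
  exact ⟨b, a₂, a₃, S, hS, ⟨e⟩, ⟨Iso.refl _⟩, ⟨Iso.refl _⟩⟩

end GaetaResLib

end
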