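import Groth.Agent.GaetaResLib.Main
import Groth.Agent.HorrocksPnLib.Main
import Groth.Agent.ResPropLib.VB
import Groth.Agent.CIDivLib.Peel
import Groth.Agent.CurveVBLib.Basic
import Groth.Agent.PnCohLib.Serre
import Groth.Agent.AmpleDevLib.Devissage

/-!
# Resolutions of bundles without sections by negative twists
-/

set_option autoImplicit false
set_option linter.style.haveILetI false
set_option backward.isDefEq.respectTransparency false
set_option backward.isDefEq.respectTransparency.types false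

noncomputable section

universe u

open CategoryTheory CategoryTheory.Limits AlgebraicGeometry TopologicalSpace Opposite
open DegenGenLib (coprojC)

namespace GaetaResLib

variable (k : Type u) [Field k]

local notation "P" => CohB1.ProjSpace 2 k
local notation "O'" => Twist.twistProjSpace 2 k

/-- Without sections there are no homomorphisms out of nonnegative twists. -/
theorem hom_eq_zero_of_nonneg {F : (CohB1.ProjSpace 2 k).Modules} (h : Van F 0 0) (s : ℤ) (hs : 0 ≤ s)
    (f : O' s ⟶ F) : f = 0 := by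
  obtain ⟨i⟩ := PicPnLib.twist_zero 2 k
  refine cancel_of_regular k (PnCohLib.isCoh_twist k s).1 0 (isMRegular_of_van k 0 ?_ ?_) f fun g => ?_
  · exact van_twist _ _ _ (by omega) (by omega)
  · exact van_twist _ _ _ (by omega) (by omega)
  · exact hom_eq_zero (t := 0) h (g ≫ f)

theorem exists_resolution {F : (CohB1.ProjSpace 2 k).Modules} (hvb : FlatMod.IsFinLocFree F) (h : Van F 0 0)
    [IsAlgClosed k] [CharZero k] :
    ∃ (r s : ℕ) (kk : Fin r → ℤ) (mm : Fin s → ℤ) (S : ShortComplex (CohB1.ProjSpace 2 k).Modules),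
      S.ShortExact ∧ (∀ i, kk i < 0) ∧ (∀ j, mm j < 0) ∧
      Nonempty (S.X₁ ≅ ∐ fun i : Fin r => O' (kk i)) ∧
      Nonempty (S.X₂ ≅ ∐ fun j : Fin s => O' (mm j)) ∧
      Nonempty (S.X₃ ≅ F) := by
  classical
  haveI := PnCohLib.isLocallyNoetherian_projSpace (n := 2) k
  haveI := GenusZeroLib.isIntegral_projSpace k 2
  have hF : Coh.IsCoh F := LocSuppLib.isCoh_of_isFinLocFree hvb
  haveI : Coh.IsQCoh F := hF.1
  obtain ⟨m₀, hm₀⟩ := PnCohLib.exists_regular k F hF
  let M : ℕ := m₀.toNat + 1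
  have hM : Curv2.IsMRegular k 2 F (M : ℤ) := hm₀ _ (by omega)
  obtain ⟨b, φ, hφ, hφK⟩ := PnCohLib.exists_step k F hF (M : ℤ) hM
  haveI : ∀ t : Fin M, Module.Finite k (O' (-((t : ℕ) : ℤ) - 1) ⟶ F) := fun t =>
    finite_hom k (PnCohLib.isCoh_twist k _) hF
  let v := fun t : Fin M => Module.finBasis k (O' (-((t : ℕ) : ℤ) - 1) ⟶ F)
  let ι := (Σ t : Fin M, Fin (Module.finrank k (O' (-((t : ℕ) : ℤ) - 1) ⟶ F))) ⊕ Fin b
  let d : ι → ℤ := Sum.elim (fun x => -((x.1 : ℕ) : ℤ) - 1) (fun _ => -(M : ℤ))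
  let gen : ∀ x : ι, O' (d x) ⟶ F := fun x =>
    match x with
    | Sum.inl x => v x.1 x.2
    | Sum.inr l => Sigma.ι (fun _ : Fin b => O' (-(M : ℤ))) l ≫ φ
  let s := Fintype.card ι
  let e := (Fintype.equivFin ι).symm
  let mm : Fin s → ℤ := fun j => d (e j)
  let β : (∐ fun j : Fin s => O' (mm j)) ⟶ F := Sigma.desc fun j => gen (e j)
  have hgen : ∀ x : ι, ∃ l : O' (d x) ⟶ ∐ fun j : Fin s => O' (mm j), l ≫ β = gen x := by
    intro x
    obtain ⟨j, rfl⟩ := e.surjective x
    exact ⟨Sigma.ι (fun j : Fin s => O' (mm j)) j, by simp [β]⟩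
  have hlow : ∀ (t : Fin M) (f : O' (-((t : ℕ) : ℤ) - 1) ⟶ F), ∃ l, l ≫ β = f := by
    intro t f
    choose l hl using fun i => hgen (Sum.inl ⟨t, i⟩)
    refine ⟨∑ i, (v t).repr f i • l i, ?_⟩
    rw [Preadditive.sum_comp]
    conv_rhs => rw [← (v t).sum_repr f]
    exact Finset.sum_congr rfl fun i _ => by rw [CategoryTheory.Linear.smul_comp, hl i]
  obtain ⟨w, hw⟩ : ∃ w, w ≫ β = φ := by
    choose l hl using fun i => hgen (Sum.inr i)
    refine ⟨Sigma.desc l, Sigma.hom_ext _ _ fun i => ?_⟩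
    rw [Sigma.ι_desc_assoc]
    exact hl i
  haveI : Epi φ := hφ
  haveI : Epi β := epi_of_epi_fac hw
  have hlift : ∀ (t : ℤ) (f : O' (-t) ⟶ F), ∃ l, l ≫ β = f := by
    intro t f
    rcases le_or_gt t 0 with ht | ht
    · exact ⟨0, by rw [zero_comp]; exact (hom_eq_zero_of_nonneg k h _ (by omega) f).symm⟩
    rcases le_or_gt t (M : ℤ) with htM | htM
    · obtain ⟨t', rfl⟩ : ∃ t' : Fin M, t = ((t' : ℕ) : ℤ) + 1 := ⟨⟨(t - 1).toNat, by omega⟩, by simp; omega⟩
      have hc : (-(((t' : ℕ) : ℤ) + 1)) = -((t' : ℕ) : ℤ) - 1 := by ring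
      revert f
      rw [hc]
      exact hlow t'
    · let S' : ShortComplex (CohB1.ProjSpace 2 k).Modules := ShortComplex.mk (kernel.ι φ) φ (kernel.condition φ)
      have hS' : S'.ShortExact := ShortComplex.ShortExact.mk (ShortComplex.exact_kernel φ)
      haveI : Coh.IsQCoh (∐ fun _ : Fin b => O' (-(M : ℤ))) := (PnCohLib.isCoh_sigma (n := 2) k _ _).1
      have hreg := PnCohLib.regular_ge k (kernel φ) (QCohLib.isQCoh_kernel φ) _ hφK (t - M).toNat
      have h1 : Van S'.X₁ t 1 := by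
        rw [van_iff]
        have := hreg 1 le_rfl (by norm_num)
        rwa [show (M : ℤ) + 1 + ((t - M).toNat : ℤ) - ((1 : ℕ) : ℤ) = t by omega] at this
      obtain ⟨l, hl⟩ := exists_lift hS' h1 f
      exact ⟨l ≫ w, by rw [Category.assoc, hw]; exact hl⟩
  let S : ShortComplex (CohB1.ProjSpace 2 k).Modules := ShortComplex.mk (kernel.ι β) β (kernel.condition β)
  have hS : S.ShortExact := ShortComplex.ShortExact.mk (ShortComplex.exact_kernel β)
  let eB : (∐ fun j : Fin s => O' (mm j)) ≅ ⨁ fun j : Fin s => O' (mm j) := (biproduct.isoCoproduct _).symm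
  have hB : FlatMod.IsFinLocFree (∐ fun j : Fin s => O' (mm j)) :=
    Groth.Agent.PerfLib.isFinLocFree_of_iso eB.symm (CIDivLib.isFinLocFree_biproduct _ fun j =>
      AmpleDevLib.isFinLocFree_of_isInvertible (PicPnLib.twist_inv 2 k _))
  have hK : FlatMod.IsFinLocFree (kernel β) := ResPropLib.isFinLocFree_kernel β hB hvb
  have hKr := CurveVBLib.rank_genRank hK
  have hvan : ∀ (i : ℕ) (t : ℤ), 0 < i → i < 2 →
      Subsingleton (Coh.HH (CohB1.ProjSpace 2 k) (CohB1.tensorMod (kernel β) (O' t)) i) := by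
    intro i t hi hi'
    obtain rfl : i = 1 := by omega
    refine (van_iff _ t 1).1 (van_X₁_one hS ?_ fun f => hlift t f)
    exact (van_iff _ t 1).2 (HorrocksPn.vanish_of_split (by norm_num) (Iso.refl _) t 1 le_rfl (by norm_num))
  obtain ⟨kk, ⟨eK⟩⟩ := (HorrocksPn.splitting_criterion hKr).2 hvan
  refine ⟨_, s, kk, mm, S, hS, fun i => ?_, fun j => ?_, ⟨eK⟩, ⟨Iso.refl _⟩, ⟨Iso.refl _⟩⟩
  · by_contra hneg
    have hmm : ∀ j, mm j < 0 := fun j => by
      show d (e j) < 0
      rcases e j with x | x <;> simp [d, M] <;> omega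
    have hz : Sigma.ι (fun i => O' (kk i)) i ≫ eK.inv ≫ kernel.ι β = 0 := by
      refine hom_eq_zero_of_nonneg k ?_ _ (not_lt.1 hneg) _
      refine van_of_hom_eq_zero (t := 0) fun f => ?_
      rw [← Category.comp_id f, ← Iso.hom_inv_id eB, ← Category.assoc,
        show f ≫ eB.hom = 0 from biproduct.hom_ext _ _ fun j => ?_, zero_comp]
      rw [zero_comp]
      exact hom_eq_zero (t := 0) (van_twist _ _ _ (by have := hmm j; omega) (by omega)) _
    have h1 : Sigma.ι (fun i => O' (kk i)) i = 0 := by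
      rw [← cancel_mono (eK.inv ≫ kernel.ι β), zero_comp]
      exact hz
    have h2 : (𝟙 (O' (kk i)) : O' (kk i) ⟶ O' (kk i)) = 0 := by
      let π : (∐ fun j => O' (kk j)) ⟶ O' (kk i) :=
        Sigma.desc fun j => if hj : j = i then eqToHom (by rw [hj]) else 0
      have : Sigma.ι (fun i => O' (kk i)) i ≫ π = 𝟙 _ := by simp [π]
      rw [← this, h1, zero_comp]
    obtain ⟨e'⟩ := exists_inv_iso 2 k (-kk i)
    have hall : ∀ g : O' (-(-kk i)) ⟶ O' (kk i), g = 0 := fun g => by rw [← Category.comp_id g, h2, comp_zero]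
    have hsub : Subsingleton (Coh.HH (CohB1.ProjSpace 2 k)
        (CohB1.tensorMod (O' (-kk i)) (O' (kk i))) 0) := (hom_eq_zero_iff e' _).2 hall
    obtain ⟨ea⟩ := PicPnLib.twist_add 2 k (-kk i) (kk i)
    have hsub0 := SerreVanLib.subsingleton_HH_of_iso (ea ≪≫ eqToIso (congrArg O' (neg_add_cancel (kk i)))).symm 0 hsub
    have hfr := PnCohLib.finrank_zero_twist (k := k) (N := 2) (by norm_num) 0
    haveI := hsub0
    rw [Module.finrank_zero_of_subsingleton] at hfr
    exact absurd hfr (by decide)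
  · show d (e j) < 0
    rcases e j with x | x <;> simp [d, M] <;> omega

end GaetaResLib

end
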