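import Groth.Agent.PnCohLib.Resol
import Groth.Agent.PnCohLib.HypSec
import Groth.Agent.VBP1Lib.Tensor
import Groth.Agent.PnDualLib.Pair
import Groth.Agent.DegPullLib.H0
import Groth.Agent.KFlatLib.PerfectPull

/-!
# Homomorphisms out of twisting sheaves and global sections
-/

set_option autoImplicit false
set_option linter.style.haveILetI false
set_option backward.isDefEq.respectTransparency false
set_option backward.isDefEq.respectTransparency.types false

noncomputable section

universe u

open CategoryTheory CategoryTheory.Limits AlgebraicGeometry TopologicalSpace Opposite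

namespace GaetaResLib

section General

variable {X : Scheme.{u}}

theorem unitHom_comp {M N : X.Modules} (φ : M ⟶ N) (s : Γ(M, (⊤ : X.Opens))) :
    QCohLib.unitHom M s ≫ φ = QCohLib.unitHom N (φ.app ⊤ s) := by
  refine Scheme.Modules.hom_ext _ _ fun V => ?_
  ext a
  show φ.app V ((QCohLib.unitHom M s).app V a) = (QCohLib.unitHom N (φ.app ⊤ s)).app V a
  rw [QCohLib.unitHom_app, QCohLib.unitHom_app, QCohLib.app_smul]
  exact congrArg (fun z : Γ(N, V) => (show Γ(X, V) from a) • z) (QCohLib.app_map φ (homOfLE (le_top : V ≤ ⊤)) s)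

theorem unitHom_inj {M : X.Modules} {s t : Γ(M, (⊤ : X.Opens))}
    (h : QCohLib.unitHom M s = QCohLib.unitHom M t) : s = t :=
  (KFlatLib.unitSecEquiv M).symm.injective h

theorem unitHom_surj {M : X.Modules} (f : Coh.structureModule X ⟶ M) : ∃ s, QCohLib.unitHom M s = f :=
  (KFlatLib.unitSecEquiv M).symm.surjective f

theorem subsingleton_h0_iff (M : X.Modules) :
    Subsingleton (Coh.HH X M 0) ↔ ∀ s : Γ(M, (⊤ : X.Opens)), s = 0 :=
  ⟨fun h s => (DegPullLib.e0 M).symm.injective (Subsingleton.elim _ _), fun h =>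
    ⟨fun a b => (DegPullLib.e0 M).injective ((h _).trans (h _).symm)⟩⟩

variable {L L' : X.Modules} (e : CohB1.tensorMod L L' ≅ Coh.structureModule X)

/-- The global section attached to a homomorphism out of the inverse module. -/
def secOf {M : X.Modules} (f : L' ⟶ M) : Γ(CohB1.tensorMod L M, (⊤ : X.Opens)) :=
  KFlatLib.unitSecEquiv _ (e.inv ≫ (CurvLib.tensorLeft' L).map f)

theorem unitHom_secOf {M : X.Modules} (f : L' ⟶ M) :
    QCohLib.unitHom _ (secOf e f) = e.inv ≫ (CurvLib.tensorLeft' L).map f :=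
  (KFlatLib.unitSecEquiv _).symm_apply_apply _

theorem secOf_bijective (M : X.Modules) : Function.Bijective (secOf e (M := M)) := by
  haveI := VBP1Lib.isEquivalence_tensor e
  refine ⟨fun f g h => ?_, fun s => ?_⟩
  · have h1 := congrArg (QCohLib.unitHom _) h
    rw [unitHom_secOf, unitHom_secOf] at h1
    exact (CurvLib.tensorLeft' L).map_injective ((cancel_epi e.inv).1 h1)
  · obtain ⟨f, hf⟩ := (CurvLib.tensorLeft' L).map_surjective (e.hom ≫ QCohLib.unitHom _ s)
    refine ⟨f, unitHom_inj ?_⟩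
    rw [unitHom_secOf, hf]
    exact e.inv_hom_id_assoc _

theorem secOf_comp {M N : X.Modules} (f : L' ⟶ M) (g : M ⟶ N) :
    secOf e (f ≫ g) = ((CurvLib.tensorLeft' L).map g).app ⊤ (secOf e f) := by
  refine unitHom_inj ?_
  rw [unitHom_secOf, Functor.map_comp, ← Category.assoc, ← unitHom_secOf]
  exact unitHom_comp _ _

theorem secOf_zero (M : X.Modules) : secOf e (0 : L' ⟶ M) = 0 := by
  have h := secOf_comp e (𝟙 L') (0 : L' ⟶ M)
  rw [comp_zero, (CurvLib.tensorLeft' L).map_zero] at h
  exact h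

include e

/-- No sections and no homomorphisms agree. -/
theorem hom_eq_zero_iff (M : X.Modules) :
    Subsingleton (Coh.HH X (CohB1.tensorMod L M) 0) ↔ ∀ f : L' ⟶ M, f = 0 := by
  rw [subsingleton_h0_iff]
  refine ⟨fun h f => (secOf_bijective e M).1 ((h _).trans (secOf_zero e M).symm), fun h s => ?_⟩
  obtain ⟨f, rfl⟩ := (secOf_bijective e M).2 s
  rw [h f]
  exact secOf_zero e M

/-- Lifting homomorphisms and lifting sections agree. -/
theorem surjective_iff {M N : X.Modules} (g : M ⟶ N) :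
    (∀ f : L' ⟶ N, ∃ h, h ≫ g = f) ↔
      ∀ b : Γ(CohB1.tensorMod L N, (⊤ : X.Opens)), ∃ a, ((CurvLib.tensorLeft' L).map g).app ⊤ a = b := by
  constructor
  · intro h b
    obtain ⟨f, rfl⟩ := (secOf_bijective e N).2 b
    obtain ⟨f', rfl⟩ := h f
    exact ⟨secOf e f', (secOf_comp e f' g).symm⟩
  · intro h f
    obtain ⟨a, ha⟩ := h (secOf e f)
    obtain ⟨f', rfl⟩ := (secOf_bijective e M).2 a
    exact ⟨f', (secOf_bijective e N).1 ((secOf_comp e f' g).trans ha)⟩

/-- Endomorphisms of the inverse module are global functions. -/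
theorem exists_smulHom (ψ : L' ⟶ L') : ∃ c : Coh.Γtop X, ψ = StabLib.smulHom L' c := by
  haveI := VBP1Lib.isEquivalence_tensor e
  obtain ⟨c, hc⟩ := unitHom_surj (e.inv ≫ (CurvLib.tensorLeft' L).map ψ ≫ e.hom)
  refine ⟨(show Coh.Γtop X from c), (CurvLib.tensorLeft' L).map_injective ?_⟩
  rw [PnDualLib.tensorLeft_smulHom]
  have h1 : QCohLib.unitHom (Coh.structureModule X) c = StabLib.smulHom _ (show Coh.Γtop X from c) := by
    refine Scheme.Modules.hom_ext _ _ fun V => ?_
    ext a
    show (QCohLib.unitHom _ c).app V a = (StabLib.smulHom _ (show Coh.Γtop X from c)).app V a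
    rw [QCohLib.unitHom_app, StabLib.smulHom_app]
    exact mul_comm (show Γ(X, V) from a) (X.presheaf.map (homOfLE (le_top : V ≤ ⊤)).op (show Γ(X, ⊤) from c))
  rw [h1] at hc
  rw [← cancel_epi e.inv, ← cancel_mono e.hom, Category.assoc, ← hc, Category.assoc]
  refine Eq.trans ?_ (congrArg (e.inv ≫ ·) (PnDualLib.smulHom_comp e.hom _).symm)
  rw [e.inv_hom_id_assoc]

omit e

/-- A module whose twist is globally generated is generated by the homomorphisms out of the inverse. -/
theorem cancel_of_gg {M Q : X.Modules} (e : CohB1.tensorMod L L' ≅ Coh.structureModule X)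
    (h : Curv2.IsGloballyGenerated (CohB1.tensorMod L M)) (q : M ⟶ Q) (hq : ∀ f : L' ⟶ M, f ≫ q = 0) : q = 0 := by
  haveI := VBP1Lib.isEquivalence_tensor e
  refine (CurvLib.tensorLeft' L).map_injective ?_
  rw [Functor.map_zero]
  refine MiscFlat6.cancel_of_isGloballyGenerated h _ fun u => ?_
  obtain ⟨f, rfl⟩ := (secOf_bijective e M).2 u
  refine (secOf_comp e f q).symm.trans ?_
  rw [hq, secOf_zero]

end General

section Proj

variable (n : ℕ) (k : Type u) [Field k]

theorem exists_inv_iso (j : ℤ) : Nonempty (CohB1.tensorMod (Twist.twistProjSpace n k j) (Twist.twistProjSpace n k (-j)) ≅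
    Coh.structureModule (CohB1.ProjSpace n k)) := by
  obtain ⟨a⟩ := PicPnLib.twist_add n k j (-j)
  obtain ⟨b⟩ := PicPnLib.twist_zero n k
  exact ⟨a ≪≫ eqToIso (congrArg (Twist.twistProjSpace n k) (add_neg_cancel j)) ≪≫ b⟩

/-- The inverse pairing of twisting sheaves. -/
def inv (i j : ℤ) (h : i + j = 0) :
    CohB1.tensorMod (Twist.twistProjSpace n k i) (Twist.twistProjSpace n k j) ≅
      Coh.structureModule (CohB1.ProjSpace n k) :=
  HilbPolyLib.congrRight _ (eqToIso (congrArg (Twist.twistProjSpace n k) (by omega : j = -i))) ≪≫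
    (exists_inv_iso n k i).some

theorem exists_scalar (c : Coh.Γtop (CohB1.ProjSpace n k)) (M : (CohB1.ProjSpace n k).Modules) :
    ∃ a : k, StabLib.smulHom M c = a • 𝟙 M := by
  obtain ⟨a, ha⟩ := (GradedCechLib.toTop_bijective (n := n) (R := k)).2 c
  refine ⟨a, ?_⟩
  rw [KLin.smul_id, ← ha]
  rfl

theorem exists_smul_id (j : ℤ) (ψ : Twist.twistProjSpace n k j ⟶ Twist.twistProjSpace n k j) :
    ∃ a : k, ψ = a • 𝟙 _ := by
  obtain ⟨c, rfl⟩ := exists_smulHom (inv n k (-j) j (by omega)) ψ
  exact exists_scalar n k c _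

theorem exists_smul_id_structure
    (ψ : Coh.structureModule (CohB1.ProjSpace n k) ⟶ Coh.structureModule (CohB1.ProjSpace n k)) :
    ∃ a : k, ψ = a • 𝟙 _ := by
  obtain ⟨c, rfl⟩ := exists_smulHom (HilbPolyLib.unitLeft (Coh.structureModule (CohB1.ProjSpace n k))) ψ
  exact exists_scalar n k c _

end Proj

end GaetaResLib

end
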