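import Groth.Agent.GaetaResLib.Twist

/-!
# Vanishing for twists, sums and kernels
-/

set_option autoImplicit false
set_option linter.style.haveILetI false
set_option backward.isDefEq.respectTransparency false
set_option backward.isDefEq.respectTransparency.types false

noncomputable section

universe u

open CategoryTheory CategoryTheory.Limits AlgebraicGeometry TopologicalSpace Opposite

namespace GaetaResLib

variable {n : ℕ} {k : Type u} [Field k]

/-- Vanishing of the cohomology of a twist. -/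
def Van (M : (CohB1.ProjSpace n k).Modules) (t : ℤ) (p : ℕ) : Prop :=
  Subsingleton (Coh.HH (CohB1.ProjSpace n k) (CohB1.tensorMod (Twist.twistProjSpace n k t) M) p)

theorem van_iff (M : (CohB1.ProjSpace n k).Modules) (t : ℤ) (p : ℕ) :
    Van M t p ↔ Subsingleton (Coh.HH (CohB1.ProjSpace n k) (CohB1.tensorMod M (Twist.twistProjSpace n k t)) p) :=
  ⟨SerreVanLib.subsingleton_HH_of_iso (HilbPolyLib.swapIso _ _) p,
    SerreVanLib.subsingleton_HH_of_iso (HilbPolyLib.swapIso _ _) p⟩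

theorem van_zero_iff (M : (CohB1.ProjSpace n k).Modules) (p : ℕ) :
    Van M 0 p ↔ Subsingleton (Coh.HH (CohB1.ProjSpace n k) M p) := by
  obtain ⟨e⟩ := PnCohLib.twist_unit (n := n) (R := k) 0 rfl M
  exact ⟨SerreVanLib.subsingleton_HH_of_iso e.symm p, SerreVanLib.subsingleton_HH_of_iso e p⟩

theorem Van.of_iso {M N : (CohB1.ProjSpace n k).Modules} (e : M ≅ N) {t : ℤ} {p : ℕ} (h : Van N t p) : Van M t p :=
  SerreVanLib.subsingleton_HH_of_iso (HilbPolyLib.congrRight _ e) p h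

theorem van_twist (s t : ℤ) (p : ℕ) (h₀ : ¬ (p = 0 ∧ 0 ≤ t + s)) (hn : ¬ (p = n ∧ t + s ≤ -((n : ℤ) + 1))) :
    Van (Twist.twistProjSpace n k s) t p := by
  obtain ⟨e⟩ := PicPnLib.twist_add n k t s
  exact SerreVanLib.subsingleton_HH_of_iso e p (PnCohLib.subsingleton_HH_twist _ _ h₀ hn)

theorem van_sigma_twist (b : ℕ) (s t : ℤ) (p : ℕ) (h₀ : ¬ (p = 0 ∧ 0 ≤ t + s))
    (hn : ¬ (p = n ∧ t + s ≤ -((n : ℤ) + 1))) : Van (∐ fun _ : Fin b => Twist.twistProjSpace n k s) t p := by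
  obtain ⟨e⟩ := PnCohLib.exists_sigma_iso (Twist.twistProjSpace n k s) b
  obtain ⟨e'⟩ := PnCohLib.twist_twist (n := n) (R := k) t s (t + s) rfl (FlatMod.freeMod (CohB1.ProjSpace n k) b)
  exact SerreVanLib.subsingleton_HH_of_iso (HilbPolyLib.congrRight _ e ≪≫ e') p
    (PnCohLib.subsingleton_HH_tensor_free _ p (PnCohLib.subsingleton_HH_twist _ _ h₀ hn) b)

theorem van_free (b : ℕ) (t : ℤ) (p : ℕ) (h₀ : ¬ (p = 0 ∧ 0 ≤ t)) (hn : ¬ (p = n ∧ t ≤ -((n : ℤ) + 1))) :
    Van (FlatMod.freeMod (CohB1.ProjSpace n k) b) t p :=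
  PnCohLib.subsingleton_HH_tensor_free _ p (PnCohLib.subsingleton_HH_twist _ _ h₀ hn) b

theorem van_biprod {M N : (CohB1.ProjSpace n k).Modules} {t : ℤ} {p : ℕ} (hM : Van M t p) (hN : Van N t p) :
    Van (M ⊞ N) t p := by
  haveI : Limits.PreservesBinaryBiproduct M N (CurvLib.tensorLeft' (Twist.twistProjSpace n k t)) :=
    preservesBinaryBiproduct_of_preservesBinaryProduct _
  exact SerreVanLib.subsingleton_HH_of_iso ((CurvLib.tensorLeft' (Twist.twistProjSpace n k t)).mapBiprod M N) p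
    (PnCohLib.subsingleton_HH_biprod p hM hN)

section Seq

variable {S : ShortComplex (CohB1.ProjSpace n k).Modules} (hS : S.ShortExact)

include hS

theorem van_X₃ {t : ℤ} {p : ℕ} (h₂ : Van S.X₂ t p) (h₁ : Van S.X₁ t (p + 1)) : Van S.X₃ t p := by
  let U := (S.map (CurvLib.tensorLeft' (Twist.twistProjSpace n k t))).map (QCohLib.toAbF (CohB1.ProjSpace n k))
  have hU : U.ShortExact :=
    QCohLib.toAbF_shortExact (HilbPolyLib.shortExact_tensor (PicPnLib.twist_inv n k t) hS)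
  haveI : Subsingleton (QCohLib.HU U.X₂ p ⊤) := AmpleDevLib.hu_of_hh h₂
  haveI : Subsingleton (QCohLib.HU U.X₁ (p + 1) ⊤) := AmpleDevLib.hu_of_hh h₁
  exact AmpleDevLib.hh_of_hu (QCohLib.subsingleton_X₃ hU)

theorem van_X₁ {t : ℤ} {p : ℕ} (h₂ : Van S.X₂ t (p + 1)) (h₃ : Van S.X₃ t p) : Van S.X₁ t (p + 1) := by
  let U := (S.map (CurvLib.tensorLeft' (Twist.twistProjSpace n k t))).map (QCohLib.toAbF (CohB1.ProjSpace n k))
  have hU : U.ShortExact :=
    QCohLib.toAbF_shortExact (HilbPolyLib.shortExact_tensor (PicPnLib.twist_inv n k t) hS)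
  haveI : Subsingleton (QCohLib.HU U.X₂ (p + 1) ⊤) := AmpleDevLib.hu_of_hh h₂
  haveI : Subsingleton (QCohLib.HU U.X₃ p ⊤) := AmpleDevLib.hu_of_hh h₃
  exact AmpleDevLib.hh_of_hu (QCohLib.subsingleton_X₁ hU)

/-- Lifting homomorphisms out of `O(-t)` kills the first cohomology of the kernel. -/
theorem van_X₁_one {t : ℤ} (h₂ : Van S.X₂ t 1)
    (hl : ∀ f : Twist.twistProjSpace n k (-t) ⟶ S.X₃, ∃ h, h ≫ S.g = f) : Van S.X₁ t 1 := by
  let U := (S.map (CurvLib.tensorLeft' (Twist.twistProjSpace n k t))).map (QCohLib.toAbF (CohB1.ProjSpace n k))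
  have hU : U.ShortExact :=
    QCohLib.toAbF_shortExact (HilbPolyLib.shortExact_tensor (PicPnLib.twist_inv n k t) hS)
  haveI : Subsingleton (QCohLib.HU U.X₂ 1 ⊤) := AmpleDevLib.hu_of_hh h₂
  refine AmpleDevLib.hh_of_hu (subsingleton_of_forall_eq 0 fun x => ?_)
  obtain ⟨y, rfl⟩ := QCohLib.delta0_surjective hU ⊤ x
  exact (QCohLib.delta0_eq_zero_iff hU ⊤ y).2 ((surjective_iff (inv n k t (-t) (by omega)) S.g).1 hl y)

/-- Without first cohomology in the kernel homomorphisms out of `O(-t)` lift. -/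
theorem exists_lift {t : ℤ} (h₁ : Van S.X₁ t 1) (f : Twist.twistProjSpace n k (-t) ⟶ S.X₃) :
    ∃ h, h ≫ S.g = f := by
  let U := (S.map (CurvLib.tensorLeft' (Twist.twistProjSpace n k t))).map (QCohLib.toAbF (CohB1.ProjSpace n k))
  have hU : U.ShortExact :=
    QCohLib.toAbF_shortExact (HilbPolyLib.shortExact_tensor (PicPnLib.twist_inv n k t) hS)
  haveI : Subsingleton (QCohLib.HU U.X₁ 1 ⊤) := AmpleDevLib.hu_of_hh h₁
  refine (surjective_iff (inv n k t (-t) (by omega)) S.g).2 (fun b => ?_) f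
  exact (QCohLib.delta0_eq_zero_iff hU ⊤ b).1 (Subsingleton.elim _ _)

end Seq

theorem hom_eq_zero {M : (CohB1.ProjSpace n k).Modules} {t : ℤ} (h : Van M t 0)
    (f : Twist.twistProjSpace n k (-t) ⟶ M) : f = 0 :=
  (hom_eq_zero_iff (inv n k t (-t) (by omega)) M).1 h f

theorem van_of_hom_eq_zero {M : (CohB1.ProjSpace n k).Modules} {t : ℤ}
    (h : ∀ f : Twist.twistProjSpace n k (-t) ⟶ M, f = 0) : Van M t 0 :=
  (hom_eq_zero_iff (inv n k t (-t) (by omega)) M).2 h

end GaetaResLib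

end
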